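import Mathlib

/-!
# S3618: elements of prime order `p` moving fewer than `p ^ 2` points: the block argument
-/

set_option autoImplicit false
set_option linter.unusedSectionVars false

namespace Cfsg.Agent.H976.PrQ

open MulAction

variable {M Ω : Type*} [Group M] [MulAction M Ω] {p : ℕ} [hp : Fact p.Prime]

/-- moved points -/
def mv (Ω : Type*) [MulAction M Ω] (g : M) : Set Ω := {x | g • x ≠ x}

theorem mem_of_pow_mem {h : M} (hh : h ^ p = 1) {k : ℕ} (hk : 0 < k) (hkp : k < p) {H : Subgroup M} (h1 : h ^ k ∈ H) :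
    h ∈ H := by
  have h2 : k.Coprime (orderOf h) :=
    Nat.Coprime.coprime_dvd_right (orderOf_dvd_of_pow_eq_one hh)
      (Nat.Coprime.symm ((Nat.Prime.coprime_iff_not_dvd hp.out).2 fun h => Nat.not_le_of_lt hkp (Nat.le_of_dvd hk h)))
  obtain ⟨m, hm⟩ := exists_pow_eq_self_of_coprime h2
  rw [← hm]
  exact H.pow_mem h1 m

variable [Finite M] [Finite Ω]

/-- **Step 0.** If `M` is generated by elements `h` with `h ^ p = 1` which move fewer than `p ^ 2` points, and if
`g` with `g ^ p = 1` moves a point of the orbit of `x` then it moves a point of the orbit of `x` under the normal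
closure of `g`. -/
theorem step0 {T : Set M} (hT : Subgroup.closure T = ⊤) (hTp : ∀ h ∈ T, h ^ p = 1)
    (hTc : ∀ h ∈ T, (mv Ω h).ncard < p * p) {x : Ω} {g c : M} (hgp : g ^ p = 1) (hg : g • c • x ≠ c • x) :
    ∃ n ∈ Subgroup.normalClosure ({g} : Set M), g • n • x ≠ n • x := by
  classical
  have hst : stabilizer M x ≠ ⊤ := by
    intro h
    apply hg
    have h1 : ∀ u : M, u • x = x := fun u => by
      have : u ∈ stabilizer M x := by rw [h]; trivial
      exact this
    rw [h1, h1]
  obtain ⟨L, hL, hSL⟩ := (eq_top_or_exists_le_coatom (stabilizer M x)).resolve_left hst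
  have hkey : ∀ (u : M) {l l' : M}, l ∈ L → l' ∈ L → u • l • x = l' • x → u ∈ L := by
    intro u l l' hl hl' h
    have h1 : l'⁻¹ * (u * l) ∈ stabilizer M x := by
      rw [mem_stabilizer_iff, mul_smul, mul_smul, h, inv_smul_smul]
    have h2 := L.mul_mem (L.mul_mem hl' (hSL h1)) (L.inv_mem hl)
    have e : l' * (l'⁻¹ * (u * l)) * l⁻¹ = u := by group
    rwa [e] at h2
  obtain ⟨h, hhT, hhL⟩ : ∃ h ∈ T, h ∉ L := by
    by_contra hcon
    push Not at hcon
    exact hL.1 (eq_top_iff.2 (hT ▸ (Subgroup.closure_le _).2 hcon))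
  have hK : (orbit L x).ncard < p := by
    have h1 : p * (orbit L x).ncard ≤ (mv Ω h).ncard := by
      have hmem : ∀ (i : Fin p) (y : orbit L x), h ^ (i : ℕ) • (y : Ω) ∈ mv Ω h := by
        rintro i ⟨y, l, rfl⟩
        intro h2
        apply hhL
        rw [smul_smul, ← pow_succ', pow_succ, mul_smul] at h2
        exact hkey h l.2 l.2 (smul_left_cancel _ h2)
      let f : Fin p × orbit L x → mv Ω h := fun z => ⟨h ^ (z.1 : ℕ) • (z.2 : Ω), hmem z.1 z.2⟩
      have haux : ∀ (i j : Fin p) (y y' : orbit L x), (i : ℕ) < j → h ^ (i : ℕ) • (y : Ω) ≠ h ^ (j : ℕ) • (y' : Ω) := by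
        rintro i j ⟨y, l, rfl⟩ ⟨y', l', rfl⟩ hij h2
        apply hhL
        obtain ⟨k, hk⟩ := Nat.exists_eq_add_of_lt hij
        have hk' : (j : ℕ) = i + (k + 1) := by omega
        rw [hk', pow_add, mul_smul] at h2
        have h3 := smul_left_cancel _ h2
        have hj := j.2
        exact mem_of_pow_mem (hTp h hhT) (k := k + 1) (by omega) (by omega) (hkey _ l'.2 l.2 h3.symm)
      have hf : Function.Injective f := by
        rintro ⟨i, y⟩ ⟨j, y'⟩ hij
        have h2 : h ^ (i : ℕ) • (y : Ω) = h ^ (j : ℕ) • (y' : Ω) := congrArg Subtype.val hij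
        rcases lt_trichotomy (i : ℕ) (j : ℕ) with h3 | h3 | h3
        · exact absurd h2 (haux i j y y' h3)
        · have h4 : i = j := Fin.ext h3
          subst h4
          rw [Subtype.ext (smul_left_cancel _ h2)]
        · exact absurd h2.symm (haux j i y' y h3)
      have h2 := Nat.card_le_card_of_injective f hf
      rwa [Nat.card_prod, Nat.card_eq_fintype_card, Fintype.card_fin, Nat.card_coe_set_eq, Nat.card_coe_set_eq] at h2
    exact lt_of_mul_lt_mul_left (lt_of_le_of_lt h1 (hTc h hhT)) (Nat.zero_le p)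
  obtain ⟨m, hm⟩ : ∃ m : M, m⁻¹ * g * m ∉ L := by
    by_contra hcon
    push Not at hcon
    apply hg
    set u := c⁻¹ * g * c with hu
    have huL : u ∈ L := hcon c
    have hup : u ^ p = 1 := by
      have : u = c⁻¹ * g * c⁻¹⁻¹ := by rw [inv_inv]
      rw [this, conj_pow, hgp, mul_one, mul_inv_cancel]
    have hux : u • x = x := by
      by_contra hne
      have haux : ∀ (i j : Fin p), (i : ℕ) < j → u ^ (i : ℕ) • x ≠ u ^ (j : ℕ) • x := by
        intro i j hij h2
        obtain ⟨k, hk⟩ := Nat.exists_eq_add_of_lt hij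
        have hk' : (j : ℕ) = i + (k + 1) := by omega
        rw [hk', pow_add, mul_smul] at h2
        have h3 : u ^ (k + 1) ∈ stabilizer M x := (smul_left_cancel _ h2).symm
        have hj := j.2
        exact hne (mem_of_pow_mem hup (k := k + 1) (by omega) (by omega) h3)
      let f : Fin p → orbit L x := fun i => ⟨u ^ (i : ℕ) • x, ⟨⟨u ^ (i : ℕ), L.pow_mem huL _⟩, rfl⟩⟩
      have hf : Function.Injective f := by
        intro i j hij
        have h2 : u ^ (i : ℕ) • x = u ^ (j : ℕ) • x := congrArg Subtype.val hij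
        rcases lt_trichotomy (i : ℕ) (j : ℕ) with h3 | h3 | h3
        · exact absurd h2 (haux i j h3)
        · exact Fin.ext h3
        · exact absurd h2.symm (haux j i h3)
      have h2 := Nat.card_le_card_of_injective f hf
      rw [Nat.card_eq_fintype_card, Fintype.card_fin, Nat.card_coe_set_eq] at h2
      omega
    rw [hu, mul_smul, mul_smul, inv_smul_eq_iff] at hux
    exact hux
  set N := Subgroup.normalClosure ({g} : Set M) with hN
  have hNL : N ⊔ L = ⊤ := by
    refine hL.2 _ (lt_of_le_of_ne le_sup_right fun h1 => hm ?_)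
    have h2 : g ∈ N := Subgroup.subset_normalClosure rfl
    have h3 : m⁻¹ * g * m⁻¹⁻¹ ∈ N := (inferInstance : N.Normal).conj_mem g h2 m⁻¹
    rw [inv_inv] at h3
    rw [h1]
    exact Subgroup.mem_sup_left h3
  have hmN : m ∈ (N ⊔ L : Subgroup M) := by rw [hNL]; trivial
  rw [← SetLike.mem_coe, Subgroup.normal_mul] at hmN
  obtain ⟨n, hn, l, hl, hnl⟩ := hmN
  refine ⟨n, hn, fun h1 => hm ?_⟩
  have hnm : n = m * l⁻¹ := by rw [← hnl, mul_inv_cancel_right]
  have h2 : n⁻¹ * (g * n) ∈ stabilizer M x := by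
    rw [mem_stabilizer_iff, mul_smul, mul_smul, h1, inv_smul_smul]
  have h3 := hSL h2
  rw [hnm] at h3
  have h4 := L.mul_mem (L.mul_mem (L.inv_mem hl) h3) hl
  have e : l⁻¹ * ((m * l⁻¹)⁻¹ * (g * (m * l⁻¹))) * l = m⁻¹ * g * m := by group
  rwa [e] at h4

end Cfsg.Agent.H976.PrQ
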