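import Cfsg.Agent.H976.PrQ.Block

/-!
# S3618, the step (G1)

Plan: `tools/plans/S3618_G1.md`.
-/

set_option autoImplicit false
set_option linter.unusedSectionVars false

namespace Cfsg.Agent.H976.PrQ

open MulAction
open scoped Pointwise

variable {G Ω : Type*} [Group G] [MulAction G Ω] {p : ℕ}

/-- a non-empty conjugation invariant set of elements of order `p`, each with a fixed point and with fewer than `p ^ 2`
moved points -/
structure Fam (p : ℕ) (Ω : Type*) [MulAction G Ω] (E : Set G) : Prop where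
  conj : ∀ g ∈ E, ∀ x : G, x * g * x⁻¹ ∈ E
  pow : ∀ g ∈ E, g ^ p = 1
  mvd : ∀ g ∈ E, ∃ x : Ω, g • x ≠ x
  fix : ∀ g ∈ E, ∃ x : Ω, g • x = x
  card : ∀ g ∈ E, (mv Ω g).ncard < p * p
  ne : E.Nonempty

/-- the group generated by the members of `E` which fix `a` -/
def Ma (E : Set G) (a : Ω) : Subgroup G := Subgroup.closure {g | g ∈ E ∧ g • a = a}

/-- the points whose orbit under `Ma E b` is fixed pointwise by `g` -/
def Fx (E : Set G) (g : G) (b : Ω) : Set Ω := {c | ∀ m ∈ Ma E b, g • m • c = m • c}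

/-- closed sets -/
def Cl (E : Set G) (X : Set Ω) : Prop := ∀ c ∈ X, ∀ m ∈ Ma E c, ∀ x ∈ X, m • x ∈ X

theorem Ma_fix {E : Set G} {a : Ω} {m : G} (hm : m ∈ Ma E a) : m • a = a := by
  have h : Ma E a ≤ stabilizer G a := (Subgroup.closure_le _).2 fun g hg => hg.2
  exact h hm

theorem mem_Ma {E : Set G} {a : Ω} {g : G} (hg : g ∈ E) (h : g • a = a) : g ∈ Ma E a :=
  Subgroup.subset_closure ⟨hg, h⟩

theorem Ma_conj {E : Set G} (hE : ∀ g ∈ E, ∀ x : G, x * g * x⁻¹ ∈ E) {a : Ω} {m : G} (hm : m ∈ Ma E a) (x : G) :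
    x * m * x⁻¹ ∈ Ma E (x • a) := by
  have h : Ma E a ≤ (Ma E (x • a)).comap (MulAut.conj x).toMonoidHom := by
    refine (Subgroup.closure_le _).2 ?_
    rintro g ⟨hg, hga⟩
    refine mem_Ma (hE g hg x) ?_
    change (x * g * x⁻¹) • x • a = x • a
    rw [mul_smul, mul_smul, inv_smul_smul, hga]
  exact h hm

theorem Ma_conj' {E : Set G} (hE : ∀ g ∈ E, ∀ x : G, x * g * x⁻¹ ∈ E) {a : Ω} (x : G) {m : G}
    (hm : m ∈ Ma E (x • a)) : x⁻¹ * m * x ∈ Ma E a := by
  have h := Ma_conj hE hm x⁻¹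
  rwa [inv_smul_smul, inv_inv] at h

theorem Cl.inter {E : Set G} {X Y : Set Ω} (hX : Cl E X) (hY : Cl E Y) : Cl E (X ∩ Y) :=
  fun c hc m hm x hx => ⟨hX c hc.1 m hm x hx.1, hY c hc.2 m hm x hx.2⟩

theorem Cl.smul {E : Set G} (hE : ∀ g ∈ E, ∀ x : G, x * g * x⁻¹ ∈ E) {X : Set Ω} (hX : Cl E X) (x : G) :
    Cl E (x • X) := by
  rintro _ ⟨c, hc, rfl⟩ m hm _ ⟨y, hy, rfl⟩
  refine ⟨(x⁻¹ * m * x) • y, hX c hc _ (Ma_conj' hE x hm) y hy, ?_⟩
  change x • (x⁻¹ * m * x) • y = m • x • y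
  rw [mul_smul, mul_smul, smul_inv_smul]

/-- an invariant equivalence relation of a primitive group -/
theorem rel_univ [hG : IsPreprimitive G Ω] (r : Setoid Ω) (hr : ∀ (g : G) (x y : Ω), r x y → r (g • x) (g • y))
    {x y : Ω} (hxy : x ≠ y) (h : r x y) (u v : Ω) : r u v := by
  have hmem : ∀ (g : G) (z : Ω), z ∈ g • {z | r x z} ↔ r (g • x) z := by
    intro g z
    rw [Set.mem_smul_set_iff_inv_smul_mem, Set.mem_ofPred_eq]
    constructor
    · intro h1
      have := hr g _ _ h1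
      rwa [smul_inv_smul] at this
    · intro h1
      have := hr g⁻¹ _ _ h1
      rwa [inv_smul_smul] at this
  have hB : IsBlock G {z | r x z} := by
    intro g₁ g₂ hne
    rw [Set.disjoint_left]
    intro z h1 h2
    rw [hmem] at h1 h2
    apply hne
    ext w
    rw [hmem, hmem]
    exact ⟨fun h3 => r.trans' (r.trans' h2 (r.symm' h1)) h3, fun h3 => r.trans' (r.trans' h1 (r.symm' h2)) h3⟩
  rcases hG.isTrivialBlock_of_isBlock hB with h1 | h1
  · exact absurd (h1 (r.refl' x) h) hxy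
  · have h2 : ∀ w, r x w := fun w => by
      have : w ∈ {z | r x z} := by rw [h1]; trivial
      exact this
    exact r.trans' (r.symm' (h2 u)) (h2 v)

variable {E : Set G}

/-- some member of `E` fixes `a` -/
theorem Fam.exists_fix [IsPretransitive G Ω] (hE : Fam p Ω E) (a : Ω) : ∃ g ∈ E, g • a = a := by
  obtain ⟨g, hg⟩ := hE.ne
  obtain ⟨y, hy⟩ := hE.fix g hg
  obtain ⟨x, hx⟩ := exists_smul_eq G y a
  refine ⟨x * g * x⁻¹, hE.conj g hg x, ?_⟩
  rw [← hx, mul_smul, mul_smul, inv_smul_smul, hy]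

/-- `Ma E a` fixes only `a` -/
theorem Fam.exists_move [Finite G] [hG : IsPreprimitive G Ω] (hE : Fam p Ω E) {a c : Ω} (hac : a ≠ c) :
    ∃ g ∈ E, g • a = a ∧ g • c ≠ c := by
  by_contra hcon
  push Not at hcon
  let St : Ω → Set G := fun a => {g | g ∈ E ∧ g • a = a}
  have hconj : ∀ (x : G) (a : Ω), St (x • a) = (fun g => x * g * x⁻¹) '' St a := by
    intro x a
    ext g
    constructor
    · rintro ⟨h1, h2⟩
      refine ⟨x⁻¹ * g * x, ⟨?_, ?_⟩, ?_⟩
      · have := hE.conj g h1 x⁻¹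
        rwa [inv_inv] at this
      · rw [mul_smul, mul_smul, h2, inv_smul_smul]
      · change x * (x⁻¹ * g * x) * x⁻¹ = g
        group
    · rintro ⟨g, ⟨h1, h2⟩, rfl⟩
      refine ⟨hE.conj g h1 x, ?_⟩
      rw [mul_smul, mul_smul, inv_smul_smul, h2]
  have hinj : ∀ x : G, Function.Injective (fun g => x * g * x⁻¹) := fun x g g' h => by
    have h1 : x * g * x⁻¹ = x * g' * x⁻¹ := h
    exact mul_left_cancel (mul_right_cancel h1)
  have hcard : ∀ a c : Ω, (St a).ncard = (St c).ncard := by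
    intro a c
    obtain ⟨x, rfl⟩ := exists_smul_eq G a c
    rw [hconj, Set.ncard_image_of_injective _ (hinj x)]
  have h1 : St a = St c := Set.eq_of_subset_of_ncard_le (fun g hg => ⟨hg.1, hcon g hg.1 hg.2⟩)
    (hcard c a).le (Set.toFinite _)
  have h2 := rel_univ (G := G) (Setoid.ker St) (fun g x y h => by
    have h' : St x = St y := h
    change St (g • x) = St (g • y)
    rw [hconj, hconj, h']) hac h1
  obtain ⟨g, hg, hga⟩ := hE.exists_fix a
  obtain ⟨x, hx⟩ := hE.mvd g hg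
  apply hx
  have h3 : St a = St x := h2 a x
  have h4 : g ∈ St x := by rw [← h3]; exact ⟨hg, hga⟩
  exact h4.2

theorem self_mem_Fx {g : G} {b : Ω} (hb : g • b = b) : b ∈ Fx E g b := fun m hm => by rw [Ma_fix hm, hb]

theorem Fx_fix {g : G} {b c : Ω} (hc : c ∈ Fx E g b) : g • c = c := by
  have := hc 1 (one_mem _)
  rwa [one_smul] at this

/-- **Step 1.** -/
theorem Fx_mono [hp : Fact p.Prime] [Finite G] [Finite Ω] (hE : Fam p Ω E) {g : G} (hg : g ∈ E) {b c : Ω}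
    (hb : g • b = b) (hc : c ∈ Fx E g b) : Fx E g c ⊆ Fx E g b := by
  intro x hx
  by_contra hxn
  have h1 : ∃ m ∈ Ma E b, g • m • x ≠ m • x := by
    by_contra h
    push Not at h
    exact hxn h
  obtain ⟨m, hm, hmx⟩ := h1
  have hT : Subgroup.closure (Subtype.val ⁻¹' {g | g ∈ E ∧ g • b = b} : Set (Ma E b)) = ⊤ :=
    Subgroup.closure_closure_coe_preimage
  have hTc : ∀ h ∈ (Subtype.val ⁻¹' {g | g ∈ E ∧ g • b = b} : Set (Ma E b)), (mv Ω h).ncard < p * p :=
    fun h hh => hE.card _ hh.1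
  obtain ⟨n, hn, hnx⟩ := step0 hT (fun h hh => Subtype.ext (hE.pow _ hh.1)) hTc
    (x := x) (g := ⟨g, mem_Ma hg hb⟩) (c := ⟨m, hm⟩) (Subtype.ext (hE.pow g hg)) hmx
  apply hnx
  change g • (n : G) • x = (n : G) • x
  refine hx n ?_
  have h2 : Subgroup.normalClosure ({⟨g, mem_Ma hg hb⟩} : Set (Ma E b)) ≤ (Ma E c).comap (Ma E b).subtype := by
    refine (Subgroup.closure_le _).2 ?_
    intro y hy
    obtain ⟨a, ha, hay⟩ := Group.mem_conjugatesOfSet_iff.1 hy
    obtain ⟨k, rfl⟩ := isConj_iff.1 hay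
    rw [Set.mem_singleton_iff] at ha
    subst ha
    change (k : G) * g * (k : G)⁻¹ ∈ Ma E c
    refine mem_Ma (hE.conj g hg k) ?_
    rw [mul_smul, mul_smul, hc _ ((Ma E b).inv_mem k.2), smul_inv_smul]
  exact h2 hn

end Cfsg.Agent.H976.PrQ
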