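import Cfsg.Agent.H976.PrQ.Geo

/-!
# S3618, the step (G1): the theorem
-/

set_option autoImplicit false
set_option linter.unusedSectionVars false

namespace Cfsg.Agent.H976.PrQ

open MulAction
open scoped Pointwise

variable {G Ω : Type*} [Group G] [MulAction G Ω] {p : ℕ} {E : Set G}

/-- `Fx E g b` of minimal size is closed -/
theorem exists_closed [hp : Fact p.Prime] [Finite G] [Finite Ω] [IsPretransitive G Ω] (hE : Fam p Ω E)
    (hcon : ∀ g ∈ E, ∀ b : Ω, g • b = b → ∃ c, c ≠ b ∧ c ∈ Fx E g b) :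
    ∃ g ∈ E, ∃ F : Set Ω, F.Nontrivial ∧ (∀ c ∈ F, g • c = c) ∧ (∀ c ∈ F, Fx E g c = F) ∧ Cl E F := by
  classical
  have hex : ∃ k, ∃ g ∈ E, ∃ b : Ω, g • b = b ∧ (Fx E g b).ncard = k := by
    obtain ⟨g, hg⟩ := hE.ne
    obtain ⟨b, hb⟩ := hE.fix g hg
    exact ⟨_, g, hg, b, hb, rfl⟩
  obtain ⟨g, hg, b, hb, hk⟩ := Nat.find_spec hex
  have hmin : ∀ c ∈ Fx E g b, Fx E g c = Fx E g b := by
    intro c hc
    refine Set.eq_of_subset_of_ncard_le (Fx_mono hE hg hb hc) ?_ (Set.toFinite _)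
    rw [hk]
    exact Nat.find_min' hex ⟨g, hg, c, Fx_fix hc, rfl⟩
  refine ⟨g, hg, Fx E g b, ?_, fun c hc => Fx_fix hc, hmin, ?_⟩
  · obtain ⟨c, hcb, hc⟩ := hcon g hg b hb
    exact ⟨c, hc, b, self_mem_Fx hb, hcb⟩
  · intro c hc m hm x hx
    rw [← hmin c hc] at hx ⊢
    intro m' hm'
    rw [← mul_smul m' m x]
    exact hx _ ((Ma E c).mul_mem hm' hm)

/-- the geometry of the translates of a minimal closed set -/
theorem exists_geo [Finite Ω] [hG : IsPreprimitive G Ω] (hE : ∀ g ∈ E, ∀ x : G, x * g * x⁻¹ ∈ E) {F : Set Ω} (hF : Cl E F)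
    (hFn : F.Nontrivial) (hFu : F ≠ Set.univ) :
    ∃ L : Set (Set Ω), Geo E L ∧ (∃ l ∈ L, l ⊆ F) ∧ (∀ l ∈ L, l.Nonempty) ∧
      ∀ X : Set Ω, Cl E X → ∀ l ∈ L, (X ∩ l).Nontrivial → l ⊆ X := by
  classical
  have hex : ∃ k, ∃ X : Set Ω, Cl E X ∧ X ⊆ F ∧ X.Nontrivial ∧ X.ncard = k := ⟨_, F, hF, subset_rfl, hFn, rfl⟩
  obtain ⟨S, hS, hSF, hSn, hSk⟩ := Nat.find_spec hex
  have hSmin : ∀ X : Set Ω, Cl E X → X ⊆ S → X.Nontrivial → X = S := by
    intro X hX hXS hXn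
    refine Set.eq_of_subset_of_ncard_le hXS ?_ (Set.toFinite _)
    rw [hSk]
    exact Nat.find_min' hex ⟨X, hX, hXS.trans hSF, hXn, rfl⟩
  set L : Set (Set Ω) := {l | ∃ x : G, l = x • S} with hL
  have hcl : ∀ l ∈ L, Cl E l := by
    rintro _ ⟨x, rfl⟩
    exact hS.smul hE x
  have hmin : ∀ X : Set Ω, Cl E X → ∀ l ∈ L, (X ∩ l).Nontrivial → l ⊆ X := by
    rintro X hX _ ⟨x, rfl⟩ hn
    have h1 : x⁻¹ • (X ∩ x • S) = S := by
      refine hSmin _ ((hX.inter (hcl _ ⟨x, rfl⟩)).smul hE x⁻¹) ?_ ?_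
      · rw [Set.smul_set_inter, inv_smul_smul]
        exact Set.inter_subset_right
      · exact hn.image (MulAction.injective x⁻¹)
    have h2 : X ∩ x • S = x • S := by
      have h3 : x • x⁻¹ • (X ∩ x • S) = x • S := congrArg (fun Z => x • Z) h1
      rwa [smul_inv_smul] at h3
    rw [← h2]
    exact Set.inter_subset_left
  have htwo : ∀ l ∈ L, ∀ l' ∈ L, l ≠ l' → ∀ y z, y ∈ l → y ∈ l' → z ∈ l → z ∈ l' → y = z := by
    intro l hl l' hl' hne y z h1 h2 h3 h4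
    by_contra hyz
    have hn : (l ∩ l').Nontrivial := ⟨y, ⟨h1, h2⟩, z, ⟨h3, h4⟩, hyz⟩
    exact hne (subset_antisymm (hmin l' (hcl l' hl') l hl (by rwa [Set.inter_comm])) (hmin l (hcl l hl) l' hl' hn))
  have hsm : ∀ l ∈ L, ∀ x : G, x • l ∈ L := by
    rintro _ ⟨x, rfl⟩ y
    exact ⟨y * x, smul_smul _ _ _⟩
  have hne : ∀ l ∈ L, l.Nonempty := by
    rintro _ ⟨x, rfl⟩
    exact (hSn.nonempty).smul_set
  have hSL : S ∈ L := ⟨1, (one_smul G S).symm⟩
  have hthr : ∀ y : Ω, ∃ l ∈ L, y ∈ l := by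
    intro y
    obtain ⟨z, hz⟩ := hSn.nonempty
    obtain ⟨x, rfl⟩ := exists_smul_eq G z y
    exact ⟨x • S, hsm S hSL x, Set.smul_mem_smul_set hz⟩
  refine ⟨L, ⟨hcl, hsm, htwo, ?_, ?_, ?_⟩, ⟨S, hSL, hSF⟩, hne, hmin⟩
  · rintro _ ⟨x, rfl⟩ _ ⟨y, rfl⟩
    rw [Set.ncard_smul_set, Set.ncard_smul_set]
  · -- at least two lines through each point
    have h1 : ∃ l ∈ L, ∃ l' ∈ L, l ≠ l' ∧ ∃ z, z ∈ l ∧ z ∈ l' := by
      by_contra hcon
      push Not at hcon
      have hB : IsBlock G S := by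
        intro g₁ g₂ hne'
        rw [Set.disjoint_left]
        intro z h1 h2
        exact hcon _ (hsm S hSL g₁) _ (hsm S hSL g₂) hne' z h1 h2
      rcases hG.isTrivialBlock_of_isBlock hB with h1 | h1
      · exact Set.not_subsingleton_iff.2 hSn h1
      · exact hFu (Set.eq_univ_of_univ_subset (h1 ▸ hSF))
    obtain ⟨l, hl, l', hl', hne', z, h1, h2⟩ := h1
    intro y
    obtain ⟨x, rfl⟩ := exists_smul_eq G z y
    exact ⟨x • l, hsm l hl x, x • l', hsm l' hl' x, fun h => hne' (smul_left_cancel x h),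
      Set.smul_mem_smul_set h1, Set.smul_mem_smul_set h2⟩
  · -- connectedness
    intro W ⟨w, hw⟩ hW
    let C : Ω → Ω → Prop := fun y z => ∃ l ∈ L, y ∈ l ∧ z ∈ l
    have hCinv : ∀ (g : G) (x y : Ω), Relation.EqvGen C x y → Relation.EqvGen C (g • x) (g • y) := by
      intro g x y h
      induction h with
      | rel x y h =>
        obtain ⟨l, hl, h1, h2⟩ := h
        exact Relation.EqvGen.rel _ _ ⟨g • l, hsm l hl g, Set.smul_mem_smul_set h1, Set.smul_mem_smul_set h2⟩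
      | refl x => exact Relation.EqvGen.refl _
      | symm x y _ ih => exact ih.symm
      | trans x y z _ _ ih1 ih2 => exact ih1.trans _ _ _ ih2
    obtain ⟨u, hu, v, hv, huv⟩ := hSn
    have h1 := rel_univ (G := G) (Relation.EqvGen.setoid C) hCinv huv
      (Relation.EqvGen.rel _ _ ⟨S, hSL, hu, hv⟩)
    rw [Set.eq_univ_iff_forall]
    intro y
    have h2 : Relation.EqvGen C w y := h1 w y
    have h3 : ∀ x y, Relation.EqvGen C x y → (x ∈ W ↔ y ∈ W) := by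
      intro x y h
      induction h with
      | rel x y h =>
        obtain ⟨l, hl, h1, h2⟩ := h
        exact ⟨fun h3 => hW l hl x h1 h3 h2, fun h3 => hW l hl y h2 h3 h1⟩
      | refl x => exact Iff.rfl
      | symm x y _ ih => exact ih.symm
      | trans x y z _ _ ih1 ih2 => exact ih1.trans ih2
    exact (h3 w y h2).1 hw

/-- **(G1).** A primitive group with an invariant set `E` of elements of order `p`, moving fewer than `p ^ 2` points and
having fixed points: for every point `a` there is `g ∈ E` which fixes `a` and is non-trivial on every orbit other than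
`{a}` of the group generated by the members of `E` which fix `a`. -/
theorem g1 [hp : Fact p.Prime] [Finite G] [Finite Ω] [hG : IsPreprimitive G Ω] (hE : Fam p Ω E) (a : Ω) :
    ∃ g ∈ E, g • a = a ∧ ∀ c, c ≠ a → ∃ m ∈ Ma E a, g • m • c ≠ m • c := by
  classical
  -- it is enough to find one point
  suffices h : ∃ g ∈ E, ∃ b : Ω, g • b = b ∧ ∀ c, c ≠ b → c ∉ Fx E g b by
    obtain ⟨g, hg, b, hb, h⟩ := h
    obtain ⟨x, rfl⟩ := exists_smul_eq G b a
    refine ⟨x * g * x⁻¹, hE.conj g hg x, by rw [mul_smul, mul_smul, inv_smul_smul, hb], fun c hc => ?_⟩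
    have h1 : x⁻¹ • c ≠ b := fun h1 => hc (by rw [← h1, smul_inv_smul])
    have h2 := h _ h1
    have h3 : ∃ m ∈ Ma E b, g • m • x⁻¹ • c ≠ m • x⁻¹ • c := by
      by_contra h3
      push Not at h3
      exact h2 h3
    obtain ⟨m, hm, hmc⟩ := h3
    refine ⟨x * m * x⁻¹, Ma_conj hE.conj hm x, fun h4 => hmc ?_⟩
    have h5 : (x * g * x⁻¹) • (x * m * x⁻¹) • c = x • g • m • x⁻¹ • c := by
      rw [mul_smul, mul_smul, mul_smul, mul_smul, inv_smul_smul]
    have h6 : (x * m * x⁻¹) • c = x • m • x⁻¹ • c := by rw [mul_smul, mul_smul]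
    rw [h5, h6] at h4
    exact smul_left_cancel x h4
  by_contra hcon
  push Not at hcon
  obtain ⟨g, hg, F, hFn, hFfix, hFx, hFcl⟩ := exists_closed hE hcon
  have hFu : F ≠ Set.univ := by
    rintro rfl
    obtain ⟨x, hx⟩ := hE.mvd g hg
    exact hx (hFfix x trivial)
  obtain ⟨L, hL, ⟨S, hSL, hSF⟩, hLne, hmin⟩ := exists_geo hE.conj hFcl hFn hFu
  -- transversals
  have htr : ∀ y : Ω, ∃ t ∈ L, y ∉ t ∧ ∀ l ∈ L, y ∈ l → (l ∩ t).Nonempty := by
    obtain ⟨y0, t, ht, hy0, h⟩ := hL.exists_transversal hE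
    intro y
    obtain ⟨x, rfl⟩ := exists_smul_eq G y0 y
    refine ⟨x • t, hL.sm t ht x, fun h1 => hy0 ?_, fun l hl hyl => ?_⟩
    · rwa [Set.smul_mem_smul_set_iff] at h1
    · obtain ⟨z, hz1, hz2⟩ := h (x⁻¹ • l) (hL.sm l hl _) (by
        rw [Set.mem_smul_set_iff_inv_smul_mem, inv_inv]
        exact hyl)
      rw [Set.mem_smul_set_iff_inv_smul_mem, inv_inv] at hz1
      exact ⟨x • z, hz1, Set.smul_mem_smul_set hz2⟩
  -- the set of points on a line inside `F` is closed under collinearity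
  have hW := hL.conn {y | ∃ l ∈ L, y ∈ l ∧ l ⊆ F} (by
      obtain ⟨z, hz⟩ := hLne S hSL
      exact ⟨z, S, hSL, hz, hSF⟩) (by
    rintro l' hl' y hyl' ⟨l, hl, hyl, hlF⟩
    suffices h : l' ⊆ F from fun x hx => ⟨l', hl', hx, h⟩
    obtain ⟨t, ht, hyt, h⟩ := htr y
    obtain ⟨z, hzl, hzt⟩ := h l hl hyl
    obtain ⟨z', hzl', hzt'⟩ := h l' hl' hyl'
    have hyF := hlF hyl
    have hgy := hFfix y hyF
    have hz'F : z' ∈ F := by
      rw [← hFx y hyF]
      intro m hm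
      have hmy := Ma_fix hm
      have h1 : m • z ∈ l := hL.cl l hl y hyl m hm z hzl
      have h2 : m • z' ∈ l' := hL.cl l' hl' y hyl' m hm z' hzl'
      have h3 : m • t ∈ L := hL.sm t ht m
      have h4 : m • z ∈ m • t := Set.smul_mem_smul_set hzt
      have h5 : m • z' ∈ m • t := Set.smul_mem_smul_set hzt'
      have h6 : g • m • z' ∈ m • t := hL.inv hg h3 h4 (hFfix _ (hlF h1)) h5
      have h7 : g • m • z' ∈ l' := hL.inv hg hl' hyl' hgy h2
      refine hL.two l' hl' (m • t) h3 ?_ _ _ h7 h6 h2 h5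
      rintro rfl
      have h8 : m • y ∈ m • t := by rw [hmy]; exact hyl'
      rw [Set.smul_mem_smul_set_iff] at h8
      exact hyt h8
    exact hmin F hFcl l' hl' ⟨y, ⟨hyF, hyl'⟩, z', ⟨hz'F, hzl'⟩, fun h => hyt (h ▸ hzt')⟩)
  apply hFu
  rw [Set.eq_univ_iff_forall]
  intro y
  have : y ∈ {y | ∃ l ∈ L, y ∈ l ∧ l ⊆ F} := by rw [hW]; trivial
  obtain ⟨l, hl, hyl, hlF⟩ := this
  exact hlF hyl

end Cfsg.Agent.H976.PrQ
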