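import Cfsg.Agent.H976.PrQ.G1

/-!
# S3618, the step (G1): the partial linear space and its transversals
-/

set_option autoImplicit false
set_option linter.unusedSectionVars false

namespace Cfsg.Agent.H976.PrQ

open MulAction
open scoped Pointwise

variable {G Ω : Type*} [Group G] [MulAction G Ω] {p : ℕ} {E : Set G}

/-- a partial linear space whose lines are closed sets -/
structure Geo (E : Set G) (L : Set (Set Ω)) : Prop where
  cl : ∀ l ∈ L, Cl E l
  sm : ∀ l ∈ L, ∀ x : G, x • l ∈ L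
  two : ∀ l ∈ L, ∀ l' ∈ L, l ≠ l' → ∀ y z, y ∈ l → y ∈ l' → z ∈ l → z ∈ l' → y = z
  card : ∀ l ∈ L, ∀ l' ∈ L, l.ncard = l'.ncard
  many : ∀ y, ∃ l ∈ L, ∃ l' ∈ L, l ≠ l' ∧ y ∈ l ∧ y ∈ l'
  conn : ∀ W : Set Ω, W.Nonempty → (∀ l ∈ L, ∀ y ∈ l, y ∈ W → l ⊆ W) → W = Set.univ

variable {L : Set (Set Ω)}

/-- a member of `E` leaves every line through a fixed point invariant -/
theorem Geo.inv (hL : Geo E L) {g : G} (hg : g ∈ E) {l : Set Ω} (hl : l ∈ L) {c : Ω} (hc : c ∈ l) (hgc : g • c = c)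
    {x : Ω} (hx : x ∈ l) : g • x ∈ l := hL.cl l hl c hc g (mem_Ma hg hgc) x hx

/-- the number of lines through a point -/
theorem Geo.card_through [IsPretransitive G Ω] (hL : Geo E L) (y z : Ω) :
    {l | l ∈ L ∧ y ∈ l}.ncard = {l | l ∈ L ∧ z ∈ l}.ncard := by
  obtain ⟨x, rfl⟩ := exists_smul_eq G y z
  have h : {l | l ∈ L ∧ x • y ∈ l} = (fun l : Set Ω => x • l) '' {l | l ∈ L ∧ y ∈ l} := by
    ext l
    constructor
    · rintro ⟨h1, h2⟩
      refine ⟨x⁻¹ • l, ⟨hL.sm l h1 _, ?_⟩, smul_inv_smul x l⟩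
      rw [Set.mem_smul_set_iff_inv_smul_mem, inv_inv]
      exact h2
    · rintro ⟨l, ⟨h1, h2⟩, rfl⟩
      exact ⟨hL.sm l h1 _, Set.smul_mem_smul_set h2⟩
  rw [h, Set.ncard_image_of_injective _ (MulAction.injective x)]

/-- **Step 4.** There is a point such that some line not containing it meets all lines through it. -/
theorem Geo.exists_transversal [hp : Fact p.Prime] [Finite Ω] [IsPretransitive G Ω] (hL : Geo E L) (hE : Fam p Ω E) :
    ∃ y, ∃ t ∈ L, y ∉ t ∧ ∀ l ∈ L, y ∈ l → (l ∩ t).Nonempty := by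
  classical
  have := Fintype.ofFinite Ω
  obtain ⟨g, hg⟩ := hE.ne
  obtain ⟨b, hb⟩ := hE.fix g hg
  -- a line which meets `fix g` and is not contained in it
  obtain ⟨t, ht, c, hct, hgc, z, hzt, hgz⟩ : ∃ t ∈ L, ∃ c ∈ t, g • c = c ∧ ∃ z ∈ t, g • z ≠ z := by
    by_contra hcon
    push Not at hcon
    have h1 := hL.conn {x | g • x = x} ⟨b, hb⟩ (fun l hl y hy hgy z hz => hcon l hl y hy hgy z hz)
    obtain ⟨x, hx⟩ := hE.mvd g hg
    apply hx
    have : x ∈ {x : Ω | g • x = x} := by rw [h1]; trivial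
    exact this
  by_contra hcon
  push Not at hcon
  have hcon' : ∀ y, y ∉ t → ∃ l ∈ L, y ∈ l ∧ l ∩ t = ∅ := by
    intro y hy
    obtain ⟨l, hl, hyl, h⟩ := hcon y t ht hy
    exact ⟨l, hl, hyl, h⟩
  set s := t.ncard with hs
  have hsl : ∀ l ∈ L, l.ncard = s := fun l hl => hL.card l hl t ht
  set r := {l | l ∈ L ∧ c ∈ l}.ncard with hr
  have hrl : ∀ y : Ω, {l | l ∈ L ∧ y ∈ l}.ncard = r := fun y => hL.card_through y c
  have hr2 : 2 ≤ r := by
    obtain ⟨l, hl, l', hl', hne, h1, h2⟩ := hL.many c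
    have h3 : ({l, l'} : Set (Set Ω)) ⊆ {l | l ∈ L ∧ c ∈ l} := by
      rintro m (rfl | rfl)
      · exact ⟨hl, h1⟩
      · exact ⟨hl', h2⟩
    have h4 := Set.ncard_le_ncard h3 (Set.toFinite _)
    rwa [Set.ncard_pair hne] at h4
  -- finsets
  set K : Finset Ω := Finset.univ.filter fun x => x ∈ t ∧ g • x ≠ x with hK
  set Y : Finset Ω := Finset.univ.filter fun x => x ∉ t ∧ g • x ≠ x with hY
  set MM : Finset (Set Ω) := Finset.univ.filter fun l => l ∈ L ∧ l ≠ t ∧ ∃ x ∈ K, x ∈ l with hMM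
  have hKmem : ∀ x, x ∈ K ↔ x ∈ t ∧ g • x ≠ x := fun x => by rw [hK, Finset.mem_filter]; simp
  have hYmem : ∀ x, x ∈ Y ↔ x ∉ t ∧ g • x ≠ x := fun x => by rw [hY, Finset.mem_filter]; simp
  have hMmem : ∀ l, l ∈ MM ↔ l ∈ L ∧ l ≠ t ∧ ∃ x ∈ K, x ∈ l := fun l => by rw [hMM, Finset.mem_filter]; simp
  -- lines of `MM` are contained in the support
  have hMsupp : ∀ l ∈ MM, ∀ y ∈ l, g • y ≠ y := by
    intro l hl y hy hgy
    obtain ⟨hlL, hlt, x, hxK, hxl⟩ := (hMmem l).1 hl
    obtain ⟨hxt, hgx⟩ := (hKmem x).1 hxK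
    exact hgx (hL.two l hlL t ht hlt _ _ (hL.inv hg hlL hy hgy hxl) (hL.inv hg ht hct hgc hxt) hxl hxt)
  -- the number of lines of `MM` through a point
  have c1 : MM.card = K.card * (r - 1) := by
    have h1 := Finset.sum_card_bipartiteAbove_eq_sum_card_bipartiteBelow (s := K) (t := MM) (fun x l => x ∈ l)
    have h2 : ∀ x ∈ K, (MM.bipartiteAbove (fun x l => x ∈ l) x).card = r - 1 := by
      intro x hx
      obtain ⟨hxt, hgx⟩ := (hKmem x).1 hx
      have h3 : (MM.bipartiteAbove (fun x l => x ∈ l) x : Set (Set Ω)) = {l | l ∈ L ∧ x ∈ l} \ {t} := by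
        ext l
        rw [Finset.mem_coe, Finset.mem_bipartiteAbove, hMmem]
        constructor
        · rintro ⟨⟨h4, h5, -⟩, h6⟩
          exact ⟨⟨h4, h6⟩, h5⟩
        · rintro ⟨⟨h4, h6⟩, h5⟩
          exact ⟨⟨h4, h5, x, hx, h6⟩, h6⟩
      rw [← Set.ncard_coe_finset, h3, Set.ncard_sdiff_singleton_of_mem (by exact ⟨ht, hxt⟩), hrl]
    have h3 : ∀ l ∈ MM, (K.bipartiteBelow (fun x l => x ∈ l) l).card = 1 := by
      intro l hl
      obtain ⟨hlL, hlt, x, hxK, hxl⟩ := (hMmem l).1 hl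
      rw [Finset.card_eq_one]
      refine ⟨x, ?_⟩
      ext y
      rw [Finset.mem_bipartiteBelow, Finset.mem_singleton]
      constructor
      · rintro ⟨h4, h5⟩
        exact hL.two l hlL t ht hlt _ _ h5 ((hKmem y).1 h4).1 hxl ((hKmem x).1 hxK).1
      · rintro rfl
        exact ⟨hxK, hxl⟩
    rw [Finset.sum_congr rfl h2, Finset.sum_congr rfl h3, Finset.sum_const, Finset.sum_const, smul_eq_mul,
      smul_eq_mul, mul_one] at h1
    exact h1.symm
  have c2 : MM.card * (s - 1) ≤ Y.card * (r - 1) := by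
    have h1 := Finset.sum_card_bipartiteAbove_eq_sum_card_bipartiteBelow (s := Y) (t := MM) (fun x l => x ∈ l)
    have h2 : ∀ y ∈ Y, (MM.bipartiteAbove (fun x l => x ∈ l) y).card ≤ r - 1 := by
      intro y hy
      obtain ⟨hyt, hgy⟩ := (hYmem y).1 hy
      obtain ⟨l0, hl0, hyl0, h0⟩ := hcon' y hyt
      have h3 : (MM.bipartiteAbove (fun x l => x ∈ l) y : Set (Set Ω)) ⊆ {l | l ∈ L ∧ y ∈ l} \ {l0} := by
        intro l hl
        rw [Finset.mem_coe, Finset.mem_bipartiteAbove, hMmem] at hl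
        obtain ⟨⟨h4, h5, x, hxK, hxl⟩, h6⟩ := hl
        refine ⟨⟨h4, h6⟩, ?_⟩
        rintro (rfl : l = l0)
        have : x ∈ l ∩ t := ⟨hxl, ((hKmem x).1 hxK).1⟩
        rw [h0] at this
        exact this
      have h4 := Set.ncard_le_ncard h3 (Set.toFinite _)
      rwa [Set.ncard_coe_finset, Set.ncard_sdiff_singleton_of_mem (by exact ⟨hl0, hyl0⟩), hrl] at h4
    have h3 : ∀ l ∈ MM, (Y.bipartiteBelow (fun x l => x ∈ l) l).card = s - 1 := by
      intro l hl
      obtain ⟨hlL, hlt, x, hxK, hxl⟩ := (hMmem l).1 hl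
      have h3 : (Y.bipartiteBelow (fun x l => x ∈ l) l : Set Ω) = l \ {x} := by
        ext y
        rw [Finset.mem_coe, Finset.mem_bipartiteBelow, hYmem]
        constructor
        · rintro ⟨⟨h4, -⟩, h5⟩
          refine ⟨h5, ?_⟩
          rintro (rfl : y = x)
          exact h4 ((hKmem y).1 hxK).1
        · rintro ⟨h4, h5⟩
          refine ⟨⟨fun h6 => h5 ?_, hMsupp l hl y h4⟩, h4⟩
          exact hL.two l hlL t ht hlt _ _ h4 h6 hxl ((hKmem x).1 hxK).1
      rw [← Set.ncard_coe_finset, h3, Set.ncard_sdiff_singleton_of_mem hxl, hsl l hlL]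
    rw [Finset.sum_congr rfl h3, Finset.sum_const, smul_eq_mul] at h1
    rw [← h1]
    refine (Finset.sum_le_sum h2).trans ?_
    rw [Finset.sum_const, smul_eq_mul]
  -- sizes
  have c3 : K.card + Y.card = (mv Ω g).ncard := by
    have h1 : (mv Ω g) = ((K ∪ Y : Finset Ω) : Set Ω) := by
      ext x
      rw [Finset.coe_union, Set.mem_union, Finset.mem_coe, Finset.mem_coe, hKmem, hYmem]
      change g • x ≠ x ↔ _
      tauto
    have h2 : Disjoint K Y := by
      rw [Finset.disjoint_left]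
      intro x h3 h4
      exact ((hYmem x).1 h4).1 ((hKmem x).1 h3).1
    rw [h1, Set.ncard_coe_finset, Finset.card_union_of_disjoint h2]
  have c4 : p ≤ K.card := by
    have hgp := hE.pow g hg
    have haux : ∀ (i j : Fin p), (i : ℕ) < j → g ^ (i : ℕ) • z ≠ g ^ (j : ℕ) • z := by
      intro i j hij h2
      obtain ⟨k, hk⟩ := Nat.exists_eq_add_of_lt hij
      have hk' : (j : ℕ) = i + (k + 1) := by omega
      rw [hk', pow_add, mul_smul] at h2
      have h3 : g ^ (k + 1) ∈ stabilizer G z := (smul_left_cancel _ h2).symm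
      have hj := j.2
      exact hgz (mem_of_pow_mem hgp (k := k + 1) (by omega) (by omega) h3)
    have hin : ∀ i : ℕ, g ^ i • z ∈ K := by
      intro i
      induction i with
      | zero => rw [pow_zero, one_smul]; exact (hKmem z).2 ⟨hzt, hgz⟩
      | succ i ih =>
        obtain ⟨h1, h2⟩ := (hKmem _).1 ih
        rw [pow_succ', mul_smul]
        refine (hKmem _).2 ⟨hL.inv hg ht hct hgc h1, fun h3 => h2 (smul_left_cancel _ h3)⟩
    have hf : Function.Injective (fun i : Fin p => (⟨g ^ (i : ℕ) • z, hin i⟩ : K)) := by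
      intro i j hij
      have h2 : g ^ (i : ℕ) • z = g ^ (j : ℕ) • z := congrArg Subtype.val hij
      rcases lt_trichotomy (i : ℕ) (j : ℕ) with h3 | h3 | h3
      · exact absurd h2 (haux i j h3)
      · exact Fin.ext h3
      · exact absurd h2.symm (haux j i h3)
    have h2 := Fintype.card_le_of_injective _ hf
    rwa [Fintype.card_fin, Fintype.card_coe] at h2
  have c5 : K.card + 1 ≤ s := by
    have h1 : ((insert c K : Finset Ω) : Set Ω) ⊆ t := by
      intro x hx
      rw [Finset.coe_insert] at hx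
      rcases hx with rfl | hx
      · exact hct
      · exact ((hKmem x).1 hx).1
    have h2 := Set.ncard_le_ncard h1 (Set.toFinite _)
    rw [Set.ncard_coe_finset, Finset.card_insert_of_notMem (fun h => ((hKmem c).1 h).2 hgc)] at h2
    exact h2
  have c6 := hE.card g hg
  rw [c1] at c2
  have c7 : K.card * (s - 1) ≤ Y.card := by
    have h1 : (K.card * (s - 1)) * (r - 1) ≤ Y.card * (r - 1) := by
      calc (K.card * (s - 1)) * (r - 1) = K.card * (r - 1) * (s - 1) := by ring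
        _ ≤ _ := c2
    exact Nat.le_of_mul_le_mul_right h1 (by omega)
  have c8 : p * p ≤ K.card * (s - 1) := Nat.mul_le_mul c4 (by omega)
  omega

end Cfsg.Agent.H976.PrQ
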